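import Groth.Agent.PD92.ProjDeform
import Groth.Agent.H34.DegOneSection
import Groth.Agent.H34.Elliptic.OverField
import Groth.Agent.H2.Rigid.GeomIrred
import Groth.Agent.S1636
import Groth.Agent.S10888

/-!
# Families of genus zero with a section

Near every point of a Noetherian affine base such a family is the projective line.
-/

set_option autoImplicit false
set_option linter.style.haveILetI false
set_option maxHeartbeats 1000000
universe u

open CategoryTheory CategoryTheory.Limits AlgebraicGeometry Opposite TopologicalSpace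

noncomputable section

namespace Groth.Agent.H34.GenusZero

open Groth.Agent Groth.Agent.Lib Groth.Agent.Lib.TensorMod Groth.Agent.Lib.TensorMod.Gen
open Groth.Agent.Lib.ProjMor Groth.Agent.Lib.ProjMor.Sec Groth.Agent.Lib.Ample.GenLocus
open Groth.Agent.Lib.ProjSpace.BaseChange ZarCoh.Exchange ZarCoh.Exchange.VeryAmpleNear

/-- The residue spectrum factors through any preimmersed spectrum of a field with the same image. -/
theorem exists_residue_factor {U : Scheme.{u}} {K : Type u} [Field K]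
    (κ : Spec (CommRingCat.of K) ⟶ U) [IsPreimmersion κ] (v : Spec (CommRingCat.of K)) :
    ∃ θ : Spec (U.residueField (κ v)) ⟶ Spec (CommRingCat.of K),
      IsIso θ ∧ θ ≫ κ = U.fromSpecResidueField (κ v) := by
  let y := κ v
  haveI : Subsingleton (Spec (CommRingCat.of K)) := inferInstanceAs (Subsingleton (PrimeSpectrum K))
  haveI : Subsingleton (Spec (U.residueField y)) :=
    inferInstanceAs (Subsingleton (PrimeSpectrum (U.residueField y)))
  let P := pullback (U.fromSpecResidueField y) κ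
  let c₁ : P ⟶ Spec (U.residueField y) := pullback.fst _ _
  let c₂ : P ⟶ Spec (CommRingCat.of K) := pullback.snd _ _
  haveI : Nonempty (Spec (U.residueField y)) :=
    inferInstanceAs (Nonempty (PrimeSpectrum (U.residueField y)))
  obtain ⟨w⟩ : Nonempty (Spec (U.residueField y)) := inferInstance
  obtain ⟨p, -, -⟩ := Scheme.exists_preimage_of_isPullback
    (IsPullback.of_hasPullback (U.fromSpecResidueField y) κ) w v
    (Scheme.fromSpecResidueField_apply _ w)
  haveI : Surjective c₁ := ⟨fun w' => ⟨p, Subsingleton.elim _ _⟩⟩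
  haveI : Surjective c₂ := ⟨fun w' => ⟨p, Subsingleton.elim _ _⟩⟩
  haveI : IsPreimmersion c₁ :=
    MorphismProperty.of_isPullback (IsPullback.of_hasPullback (U.fromSpecResidueField y) κ).flip ‹_›
  haveI : IsPreimmersion c₂ :=
    MorphismProperty.of_isPullback (IsPullback.of_hasPullback (U.fromSpecResidueField y) κ) inferInstance
  haveI : IsClosedImmersion c₁ := IsClosedImmersion.of_isPreimmersion _ (by
    rw [c₁.surjective.range_eq]; exact isClosed_univ)
  haveI : IsClosedImmersion c₂ := IsClosedImmersion.of_isPreimmersion _ (by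
    rw [c₂.surjective.range_eq]; exact isClosed_univ)
  haveI : IsIso c₁ := isIso_of_isClosedImmersion_of_surjective c₁
  haveI : IsIso c₂ := isIso_of_isClosedImmersion_of_surjective c₂
  refine ⟨inv c₁ ≫ c₂, inferInstance, ?_⟩
  rw [Category.assoc, IsIso.inv_comp_eq]
  exact pullback.condition.symm

/-- An isomorphism on a base change along a point is one on the fibre. -/
theorem exists_fiber_iso {W P' U F P₀ : Scheme.{u}} {K : Type u} [Field K] (q : W ⟶ U) (π : P' ⟶ U)
    (j : W ⟶ P') (κ : Spec (CommRingCat.of K) ⟶ U) [IsPreimmersion κ] (v : Spec (CommRingCat.of K))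
    (g : F ⟶ W) (p₀ : F ⟶ Spec (CommRingCat.of K)) (hg : IsPullback g p₀ q κ)
    (c : P₀ ⟶ P') (r : P₀ ⟶ Spec (CommRingCat.of K)) (hc : IsPullback c r π κ)
    (i : F ⟶ P₀) [IsIso i] (hi : i ≫ c = g ≫ j) :
    ∃ e : q.fiber (κ v) ≅ π.fiber (κ v), e.hom ≫ π.fiberι (κ v) = q.fiberι (κ v) ≫ j := by
  obtain ⟨θ, hθ, hθκ⟩ := exists_residue_factor κ v
  have key : ∀ {Z : Scheme.{u}} (h : Z ⟶ U), IsPullback (h.fiberι (κ v))
      (h.fiberToSpecResidueField (κ v) ≫ θ) h κ := fun h =>
    (IsPullback.of_hasPullback h (U.fromSpecResidueField (κ v))).of_iso (Iso.refl _) (Iso.refl _)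
      (asIso θ) (Iso.refl _) ((Category.comp_id _).trans (Category.id_comp _).symm)
      (Category.id_comp _).symm ((Category.comp_id _).trans (Category.id_comp _).symm)
      (by rw [Iso.refl_hom, Category.comp_id, asIso_hom, hθκ])
  let a := (key q).isoIsPullback _ _ hg
  let b := (key π).isoIsPullback _ _ hc
  refine ⟨a ≪≫ asIso i ≪≫ b.symm, ?_⟩
  simp only [Iso.trans_hom, asIso_hom, Iso.symm_hom, Category.assoc]
  rw [IsPullback.isoIsPullback_inv_fst, hi, IsPullback.isoIsPullback_hom_fst_assoc]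

variable {A : Type u} [CommRing A] [IsNoetherianRing A] {X : Scheme.{u}}
  (f : X ⟶ Spec (CommRingCat.of A)) [IsProper f] [Smooth f] [GeometricallyConnected f]

theorem exists_near (hdim : ∀ s, topologicalKrullDim ↥(f.fiber s) = 1)
    (hg : ∀ s, CohIII.fiberRank f (Coh.structureModule X) 1 s = 0)
    (σ : Spec (CommRingCat.of A) ⟶ X) (hσ : σ ≫ f = 𝟙 _) (x : PrimeSpectrum A) :
    ∃ (W₀ : (Spec (CommRingCat.of A)).Opens) (_ : x ∈ W₀)
      (j : (f ⁻¹ᵁ W₀ : X.Opens).toScheme ⟶ CohB1.ProjSpaceOver 1 (W₀ : Scheme.{u})),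
      j ≫ CohB1.ProjSpaceOver.toBase 1 (W₀ : Scheme.{u}) = f ∣_ W₀ ∧ IsIso j := by
  haveI := DegOneSection.isClosedImmersion_section f σ hσ
  have hJ : BlowUp.IsEffCartierIdeal σ.ker := by
    haveI := AbelMono.smooth_relDim_one f hdim
    refine RelDiv.Cartier.isEffCartier_of_isFinLocFree f _ ?_
    have h1 : σ.toImage ≫ σ.ker.subschemeι ≫ f = 𝟙 _ := by
      rw [← Category.assoc]
      exact (congrArg (· ≫ f) σ.toImage_imageι).trans hσ
    haveI : IsIso (σ.toImage ≫ σ.ker.subschemeι ≫ f) := by rw [h1]; infer_instance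
    haveI : IsIso (σ.ker.subschemeι ≫ f) := IsIso.of_isIso_comp_left σ.toImage _
    exact (HilbD.Sec.finLocFreeOfDeg_one_of_isIso (σ.ker.subschemeι ≫ f)).1
  have hI : PicF.IsInvertible (ClSub.idealMod σ.ker) := Lib.ClSub.Cartier.isInvertible_idealMod hJ
  let M := TensorMod.Dual.dual (ClSub.idealMod σ.ker)
  have hM : PicF.IsInvertible M := Invertible.isInvertible_dual hI
  let eM : CohB1.tensorMod M (ClSub.idealMod σ.ker) ≅ Coh.structureModule X :=
    Basic.comm _ _ ≪≫ Invertible.tensorDualIso hI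
  -- the fibre
  let K := x.asIdeal.ResidueField
  let κ : Spec (CommRingCat.of K) ⟶ Spec (CommRingCat.of A) :=
    Spec.map (CommRingCat.ofHom (algebraMap A K))
  let F := f.fiber x
  letI : X.Over (Spec (CommRingCat.of A)) := ⟨f⟩
  haveI : IsProper (X ↘ Spec (CommRingCat.of A)) := ‹IsProper f›
  letI : F.Over (Spec (CommRingCat.of K)) :=
    ⟨f.fiberToSpecResidueField x ≫ Spec.map (Scheme.Spec.residueFieldIso (CommRingCat.of A) x).inv⟩
  let p₀ := F ↘ Spec (CommRingCat.of K)
  let g := f.fiberι x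
  have hsq : IsPullback g p₀ f κ := Fibre.isPullback_fiber f x
  haveI : IsProper p₀ := MorphismProperty.of_isPullback hsq ‹IsProper f›
  haveI : Smooth p₀ := MorphismProperty.of_isPullback hsq ‹Smooth f›
  haveI : GeometricallyConnected p₀ := MorphismProperty.of_isPullback hsq ‹GeometricallyConnected f›
  haveI : ConnectedSpace F := by
    haveI : Subsingleton (Spec (CommRingCat.of K)) := inferInstanceAs (Subsingleton (PrimeSpectrum K))
    haveI : Nonempty (Spec (CommRingCat.of K)) := inferInstanceAs (Nonempty (PrimeSpectrum K))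
    exact GeometricallyConnected.connectedSpace_of_subsingleton p₀
  haveI : IsIntegral F := H2.Rigid.GeomIrred.isIntegral_of_smooth p₀
  have hdF : topologicalKrullDim F = 1 := hdim x
  have h0 : Module.finrank K (Coh.HH F (Coh.structureModule F) 0) = 1 := CurveFF.finrank_h0_eq_one K F
  have hgF : Curv2.genus K F = 0 := by
    let v : Spec (CommRingCat.of K) := IsLocalRing.closedPoint K
    have hv : κ v = x := PrimeSpectrum.ext (by
      show (IsLocalRing.maximalIdeal K).comap (algebraMap A K) = x.asIdeal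
      rw [IsLocalRing.maximalIdeal_eq_bot]
      exact (RingHom.ker_eq_comap_bot _).symm.trans (Ideal.ker_algebraMap_residueField _))
    have hO := TensorMod.LocFree.of_rank (TensorMod.LocFree.of_isInvertible
      (PicLoc.isInvertible_structureModule X))
    haveI : (Coh.structureModule X).IsQuasicoherent :=
      TensorMod.QCohInv.isQCoh_of_isInvertible (PicLoc.isInvertible_structureModule X)
    have h := ExchangeFP29.FieldPoint.fiberRank_baseChange f (Coh.structureModule X)
      (TensorMod.FPConv.isFP_of_isFinLocFree hO)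
      (NearFibre.isFlatOver_of_isFinLocFree f hO) κ g p₀ hsq 1 v
    rw [hv, hg, PicDegree.fiberRank_congr _ (PicLoc.pullbackStructureIso g),
      Elliptic.OverField.fiberRank_eq] at h
    exact h
  -- the module has degree one on the fibre
  obtain ⟨τ', hτ', hker, -⟩ := DegOneSection.exists_sec hsq σ hσ
  have hcl : IsClosed ({Curves.RationalPoint.pt (k := K) τ'} : Set F) :=
    Curves.RationalPoint.isClosed_pt (k := K) τ' hτ'
  have hkey := Curves.RationalPoint.ker_eq (k := K) τ' hτ' hcl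
  have hgp : genericPoint F ∉ ((σ.ker.comap g).support : Set F) := by
    refine Curves.IdealTwist.genericPoint_not_mem hdF ?_
    rw [hker, hkey, Curves.PointIdeal.support_ptI]
    exact (topologicalKrullDim_zero_of_discreteTopology
      ({Curves.RationalPoint.pt (k := K) τ'} : Set F))
  have hreg : ∀ (U : X.affineOpens) (s : Γ(X, U.1)), s ∈ nonZeroDivisors Γ(X, U.1) →
      σ.ker.ideal U = _root_.Ideal.span {s} → ∀ z (hz : z ∈ g ⁻¹ᵁ U.1),
        F.presheaf.germ _ z hz (g.app U.1 s) ∈ nonZeroDivisors (F.presheaf.stalk z) := by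
    intro U s _ hs z hz
    rw [mem_nonZeroDivisors_iff_ne_zero]
    intro h0
    haveI : Nonempty (g ⁻¹ᵁ U.1) := ⟨⟨z, hz⟩⟩
    have hs0 : g.app U.1 s = 0 := by
      apply germ_injective_of_isIntegral F z hz
      rw [h0, map_zero]
    have hηU : genericPoint F ∈ g ⁻¹ᵁ U.1 :=
      (genericPoint_specializes z).mem_open (Opens.isOpen _) hz
    have hnot : g (genericPoint F) ∉ σ.ker.support := fun h => hgp (by
      rw [Scheme.IdealSheafData.support_comap]; exact h)
    rw [Lib.Ideal.Prime.mem_support_iff_le_prime σ.ker U hηU, hs, Ideal.span_singleton_le_iff_mem,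
      ← Lib.Ideal.EffCartier.mem_basicOpen_iff_notMem_prime U.2 hηU] at hnot
    have h1 : genericPoint F ∈ F.basicOpen (g.app U.1 s) := by
      rw [← Scheme.preimage_basicOpen]; exact hnot
    rw [hs0, Scheme.basicOpen_zero] at h1
    exact h1
  obtain ⟨iJ⟩ := ModelFibre.IdealPull.nonempty_pullback_idealMod g hJ hreg
  have hIy : PicF.IsInvertible (ClSub.idealMod (σ.ker.comap g)) :=
    Invertible.isInvertible_of_iso iJ (PicLoc.isInvertible_pullback g hI)
  have hLy : PicF.IsInvertible ((Scheme.Modules.pullback g).obj M) := PicLoc.isInvertible_pullback g hM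
  have hd : Curv2.deg K F ((Scheme.Modules.pullback g).obj M) 1 = ((1 : ℕ) : ℤ) := by
    have hdI : Curv2.deg K F (ClSub.idealMod (σ.ker.comap g)) 1 = -1 := by
      rw [Curves.Degree.deg_idealMod hdF.le hIy hgp, hker, hkey,
        Curves.PointIdeal.hdim_quot_point hcl, Curves.RationalPoint.finrank_residueField (k := K) τ' hτ']
      rfl
    let ee : CohB1.tensorMod ((Scheme.Modules.pullback g).obj M) (ClSub.idealMod (σ.ker.comap g)) ≅
        Coh.structureModule F :=
      Basic.tensorIso (Iso.refl _) iJ.symm ≪≫ (Pullback.pullbackTensorIso g _ _).symm ≪≫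
        (Scheme.Modules.pullback g).mapIso eM ≪≫ PicLoc.pullbackStructureIso g
    have h := Curves.Degree.deg_tensor (k := K) hdF.le hLy hIy
    rw [Curves.Euler.deg_eq_of_iso ee, Curves.Degree.deg_structureModule, hdI] at h
    push_cast
    linarith
  -- the fibre is the line
  obtain ⟨v, hv, hvK, ⟨ψ⟩⟩ := Groth.Agent.S1636.result K F hdF h0 hgF _ hLy 1 one_pos hd
  haveI := Curves.GenusZero.isIso_closedImmersion hdF v
  let i : F ⟶ CohB1.ProjSpaceOver 1 (Spec (CommRingCat.of K)) := v ≫ (overSpecIso 1 K).inv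
  have hi : i ≫ CohB1.ProjSpaceOver.toBase 1 (Spec (CommRingCat.of K)) = p₀ := by
    rw [Category.assoc, overSpecIso_inv_toBase]
    exact hvK
  let Z : Type u := ULift.{u} ℤ
  let O1 := Twist.twistProjSpace 1 Z 1
  have hifst : i ≫ pullback.fst _ _ = v ≫ projMap 1 (ulz K) := by
    rw [← overSpecIso_hom_projMap 1 K]
    exact (Category.assoc _ _ _).trans (congrArg (v ≫ ·) ((overSpecIso 1 K).inv_hom_id_assoc _))
  let L' := (Scheme.Modules.pullback (i ≫ pullback.fst _ _)).obj O1
  obtain ⟨φ₀⟩ : Nonempty ((Scheme.Modules.pullback g).obj M ≅ L') := by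
    obtain ⟨τ⟩ : Nonempty ((Scheme.Modules.pullback (projMap 1 (ulz K))).obj O1 ≅
        ProjCoh.Coherent.tw 1 K 1) :=
      Groth.Agent.Lib.ProperFin.ProjFacts.nonempty_pullback_O 1 Z K (ulz K) 1
    exact ⟨ψ.symm ≪≫ (Scheme.Modules.pullback v).mapIso τ.symm ≪≫
      (Scheme.Modules.pullbackComp v _).app O1 ≪≫ (Scheme.Modules.pullbackCongr hifst.symm).app O1⟩
  -- lift the coordinates
  haveI : IsLocallyNoetherian X := LocallyOfFiniteType.isLocallyNoetherian f
  have hlf := LocFree.of_rank (LocFree.of_isInvertible hM)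
  have hcoh : Coh.IsCoh M := Perfect.Coherent.isCoh_of_isFinLocFree hlf
  haveI : M.IsQuasicoherent := hcoh.1
  have hfl : FlatMod.IsFlatOver f M := NearFibre.isFlatOver_of_isFinLocFree f hlf
  have hrank : CohIII.fiberRank f M 1 x = 0 := by
    haveI : Subsingleton (CohIII.fiberH f M x 1) := by
      exact Curves.Clifford.subsingleton_one_of_deg K hdF.le h0 hLy (by rw [hgF, hd]; norm_num)
    exact Module.finrank_zero_of_subsingleton
  obtain ⟨T₀, hT₀⟩ : ∃ T₀ : Fin (1 + 1) → ProjUP.Γm ((Scheme.Modules.pullback g).obj M),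
      ∀ m, T₀ m = φ₀.inv.app ⊤ (ProjUP.pullSec (i ≫ pullback.fst _ _) O1 (ProjUP.coord 1 Z m)) :=
    ⟨_, fun m => rfl⟩
  obtain ⟨s, t, ht⟩ := exists_lift_family x hsq M hcoh hfl
    (fun P _ _ e₁ => ((Fibre.fiberRank_eq f M x e₁).symm.trans hrank)) T₀
  obtain ⟨φ, hφ⟩ : ∃ φ : (Scheme.Modules.pullback g).obj M ≅ L',
      ∀ m, φ.hom.app ⊤ (ProjUP.pullSec g M (t m)) =
        ProjUP.pullSec (i ≫ pullback.fst _ _) O1 (ProjUP.coord 1 Z m) :=
    ⟨s ≪≫ φ₀, fun m => app_inv_app s φ₀ _ _ ((ht m).trans (hT₀ m))⟩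
  -- shrink the base so that the sections generate
  let O : X.Opens := ⨆ m, locus (t m)
  let W₁ : (Spec (CommRingCat.of A)).Opens :=
    ⟨(f '' (O : Set X)ᶜ)ᶜ, (f.isClosedMap _ O.2.isClosed_compl).isOpen_compl⟩
  have hκx : ∀ w, κ w = x := fun w => PrimeSpectrum.ext (by
    haveI : Subsingleton (Spec (CommRingCat.of K)) := inferInstanceAs (Subsingleton (PrimeSpectrum K))
    rw [Subsingleton.elim w (IsLocalRing.closedPoint K)]
    show (IsLocalRing.maximalIdeal K).comap (algebraMap A K) = x.asIdeal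
    rw [IsLocalRing.maximalIdeal_eq_bot]
    exact (RingHom.ker_eq_comap_bot _).symm.trans (Ideal.ker_algebraMap_residueField _))
  have hxW : x ∈ W₁ := by
    rintro ⟨z, hz, hzx⟩
    obtain ⟨z', rfl⟩ : z ∈ Set.range g := (f.range_fiberι x).ge hzx
    exact hz (PD92.ProjDeform.exists_mem_locus g 1 M hM _ t φ hφ z')
  have hκr : Set.range κ ⊆ Set.range W₁.ι := by
    rw [Scheme.Opens.range_ι]
    rintro _ ⟨w, rfl⟩
    rw [hκx]
    exact hxW
  let W := f ⁻¹ᵁ W₁
  let q := f ∣_ W₁
  let κ₁ := IsOpenImmersion.lift W₁.ι κ hκr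
  have hκ₁ : κ₁ ≫ W₁.ι = κ := IsOpenImmersion.lift_fac _ _ _
  haveI : IsPreimmersion κ := by
    rw [show κ = Spec.map (Scheme.Spec.residueFieldIso (CommRingCat.of A) x).hom ≫
      (Spec (CommRingCat.of A)).fromSpecResidueField x from by
        rw [← Scheme.Spec.map_residueFieldIso_inv_eq_fromSpecResidueField, ← Category.assoc,
          ← Spec.map_comp, Iso.inv_hom_id, Spec.map_id, Category.id_comp]]
    infer_instance
  haveI : IsPreimmersion (κ₁ ≫ W₁.ι) := hκ₁.symm ▸ inferInstance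
  haveI : IsPreimmersion κ₁ := IsPreimmersion.of_comp κ₁ W₁.ι
  let g₁ := (isPullback_morphismRestrict f W₁).lift (p₀ ≫ κ₁) g
    (by rw [Category.assoc, hκ₁]; exact hsq.w.symm)
  have hg₁ : g₁ ≫ W.ι = g := IsPullback.lift_snd _ _ _ _
  have hsq₁ : IsPullback g₁ p₀ q κ₁ :=
    IsPullback.of_right (h₁₁ := g₁) (by rw [hg₁, hκ₁]; exact hsq)
      (IsPullback.lift_fst _ _ _ _) (isPullback_morphismRestrict f W₁).flip
  let t₁ := fun m => ProjUP.pullSec W.ι M (t m)
  have hgen : ∀ w : W, ∃ m, w ∈ locus (t₁ m) := fun w => by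
    have hw : w.1 ∈ O := by
      by_contra h
      exact w.2 ⟨w.1, h, rfl⟩
    obtain ⟨m, hm⟩ := Opens.mem_iSup.1 hw
    exact ⟨m, (locus_pullback hM W.ι (t m)).ge hm⟩
  -- the morphism
  obtain ⟨ρ, hρ, τ, hτ⟩ := Poly.exists_map 1 Z (q ≫ specULiftZIsTerminal.from _) _
    (PicLoc.isInvertible_pullback W.ι hM) t₁ (Embed.generatedBy_of_locus t₁ hgen)
  let π := CohB1.ProjSpaceOver.toBase 1 (W₁ : Scheme.{u})
  let j : (W : Scheme.{u}) ⟶ CohB1.ProjSpaceOver 1 (W₁ : Scheme.{u}) := pullback.lift ρ q hρ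
  have hjπ : j ≫ π = q := pullback.lift_snd _ _ _
  have hjr : j ≫ pullback.fst _ _ = ρ := pullback.lift_fst _ _ _
  have hgr : g₁ ≫ ρ = i ≫ pullback.fst _ _ := by
    refine PD92.ProjDeform.comp_eq_of_sections g₁ 1 _ ρ _ t₁ τ hτ
      ((Scheme.Modules.pullbackComp g₁ W.ι).app M ≪≫ (Scheme.Modules.pullbackCongr hg₁).app M ≪≫ φ)
      fun m => ?_
    refine Eq.trans ?_ (hφ m)
    simp only [Iso.trans_hom, Scheme.Modules.Hom.comp_app, ConcreteCategory.comp_apply, Iso.app_hom]
    refine congrArg (φ.hom.app ⊤) ?_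
    exact (congrArg (fun u => ((Scheme.Modules.pullbackCongr hg₁).hom.app M).app ⊤ u)
      (CohDelta.Units.comp_eta g₁ W.ι M ⊤ (t m))).trans (pullSec_congr hg₁ M (t m))
  have hij : i ≫ overMap 1 κ₁ = g₁ ≫ j := by
    symm
    apply pullback.hom_ext
    · refine (Category.assoc g₁ j _).trans (((congrArg (g₁ ≫ ·) hjr).trans hgr).trans ?_)
      exact (congrArg (i ≫ ·) (overMap_fst 1 κ₁)).symm.trans (Category.assoc i _ _).symm
    · refine (Category.assoc g₁ j _).trans (((congrArg (g₁ ≫ ·) hjπ).trans hsq₁.w).trans ?_)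
      refine Eq.trans ?_ ((congrArg (i ≫ ·) (overMap_toBase 1 κ₁)).symm.trans (Category.assoc i _ _).symm)
      rw [← Category.assoc, hi]
  let w₀ : Spec (CommRingCat.of K) := IsLocalRing.closedPoint K
  obtain ⟨e, he⟩ := exists_fiber_iso q π j κ₁ w₀ g₁ p₀ hsq₁ (overMap 1 κ₁) _
    (isPullback_overMap 1 κ₁) i hij
  haveI : IsLocallyNoetherian (W₁ : Scheme.{u}) := inferInstance
  haveI : IsProper q := MorphismProperty.of_isPullback (isPullback_morphismRestrict f W₁).flip ‹IsProper f›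
  haveI : Smooth q := MorphismProperty.of_isPullback (isPullback_morphismRestrict f W₁).flip ‹Smooth f›
  haveI : IsProper π :=
    MorphismProperty.pullback_snd _ _ (ProjSpace.Basic.isProper_toSpec 1 Z)
  haveI : LocallyOfFinitePresentation π :=
    LocallyOfFinitePresentation.iff_locallyOfFiniteType.2 inferInstance
  obtain ⟨U, hU, hiso⟩ := Groth.Agent.S10888.result q π j hjπ
  have hxU : κ₁ w₀ ∈ U := (hU _).2 ⟨e, he⟩
  -- restrict to the good open
  let W₂ : (Spec (CommRingCat.of A)).Opens := W₁.ι ''ᵁ U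
  refine ⟨W₂, ⟨κ₁ w₀, hxU, (congr($hκ₁ w₀)).trans (hκx w₀)⟩, ?_⟩
  have hWle : W₂ ≤ W₁ := by
    rintro _ ⟨w, -, rfl⟩
    exact w.2
  let ν : (W₂ : Scheme.{u}) ⟶ (W₁ : Scheme.{u}) := Scheme.homOfLE _ hWle
  have hν : ν ≫ W₁.ι = W₂.ι := Scheme.homOfLE_ι _ hWle
  let e₂ : (f ⁻¹ᵁ W₂ : X.Opens).toScheme ⟶ (W : Scheme.{u}) :=
    Scheme.homOfLE _ (f.preimage_mono hWle)
  have he₂ : e₂ ≫ W.ι = (f ⁻¹ᵁ W₂).ι := Scheme.homOfLE_ι _ _
  have hpb : IsPullback e₂ (f ∣_ W₂) q ν := by
    refine IsPullback.of_right (h₁₁ := e₂) ?_ ?_ (isPullback_morphismRestrict f W₁).flip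
    · rw [he₂, hν]; exact (isPullback_morphismRestrict f W₂).flip
    · rw [← cancel_mono W₁.ι, Category.assoc, Category.assoc, morphismRestrict_ι, hν,
        morphismRestrict_ι, ← Category.assoc, he₂]
  let j₂ : (f ⁻¹ᵁ W₂ : X.Opens).toScheme ⟶ CohB1.ProjSpaceOver 1 (W₂ : Scheme.{u}) :=
    pullback.lift (e₂ ≫ ρ) (f ∣_ W₂) (specULiftZIsTerminal.hom_ext _ _)
  have hj₂π : j₂ ≫ CohB1.ProjSpaceOver.toBase 1 _ = f ∣_ W₂ := pullback.lift_snd _ _ _
  have hj₂r : j₂ ≫ pullback.fst _ _ = e₂ ≫ ρ := pullback.lift_fst _ _ _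
  refine ⟨j₂, hj₂π, ?_⟩
  have hsq₂ : IsPullback e₂ j₂ j (overMap 1 ν) := by
    refine IsPullback.of_bot ?_ ?_ (isPullback_overMap 1 ν)
    · rw [hj₂π, hjπ]
      exact hpb
    · apply pullback.hom_ext
      · refine (Category.assoc e₂ j _).trans ((congrArg (e₂ ≫ ·) hjr).trans (hj₂r.symm.trans ?_))
        exact (congrArg (j₂ ≫ ·) (overMap_fst 1 ν)).symm.trans (Category.assoc j₂ _ _).symm
      · refine (Category.assoc e₂ j _).trans (((congrArg (e₂ ≫ ·) hjπ).trans hpb.w).trans ?_)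
        refine Eq.trans ?_ ((congrArg (j₂ ≫ ·) (overMap_toBase 1 ν)).symm.trans (Category.assoc j₂ _ _).symm)
        rw [← Category.assoc, hj₂π]
  haveI : IsOpenImmersion (overMap 1 ν) :=
    MorphismProperty.of_isPullback (P := @IsOpenImmersion) (isPullback_overMap 1 ν).flip inferInstance
  have hΩ : Set.range (overMap 1 ν) ⊆ Set.range (π ⁻¹ᵁ U).ι := by
    rw [Scheme.Opens.range_ι]
    rintro _ ⟨z, rfl⟩
    show π (overMap 1 ν z) ∈ U
    rw [← Scheme.Hom.comp_apply, overMap_toBase, Scheme.Hom.comp_apply]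
    set w := CohB1.ProjSpaceOver.toBase 1 (W₂ : Scheme.{u}) z
    obtain ⟨u, hu, huw⟩ := w.2
    have : W₁.ι (ν w) = W₁.ι u := (congr($hν w)).trans huw.symm
    exact W₁.ι.isOpenEmbedding.injective this ▸ hu
  let l := IsOpenImmersion.lift (π ⁻¹ᵁ U).ι (overMap 1 ν) hΩ
  have hl : l ≫ (π ⁻¹ᵁ U).ι = overMap 1 ν := IsOpenImmersion.lift_fac _ _ _
  let e' := (isPullback_morphismRestrict j (π ⁻¹ᵁ U)).lift (j₂ ≫ l) e₂
    (by rw [Category.assoc, hl, hsq₂.w])
  exact (IsPullback.of_right (h₁₁ := e') (by rw [IsPullback.lift_snd, hl]; exact hsq₂)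
    (IsPullback.lift_fst _ _ _ _) (isPullback_morphismRestrict j (π ⁻¹ᵁ U)).flip).isIso_snd_of_isIso

end Groth.Agent.H34.GenusZero
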